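import Mathlib
import Groth.Agent.Lib.Helper1.TorL
import Groth.Agent.Lib.Helper1.TorNat

/-!
# Change of rings for pro-vanishing of Tor (helper5)

`B → A` a ring map.  For a tower `𝒴 : ℕᵒᵖ ⥤ Mod B` of modules of flat dimension `≤ n` whose transition
maps (for jumps `≥ c`) kill `Tor^B_j(-, A)`, `j ≥ 1`, the transition maps of the base-changed tower
(for jumps `≥ n c`) kill `Tor^A_i(-, M)` for all `i > n` and all `A`-modules `M`.
-/

universe u
open CategoryTheory MonoidalCategory Limits TensorProduct Opposite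

namespace Groth.Agent.Lib.Helper5.TorPro
open Groth.Agent.Helper1.TorL Groth.Agent.Helper1.TorNat

section Syz
variable {B : Type u} [CommRing B]

/-- the functorial free presentation `0 → Ω Y → B^(Y) → Y → 0` -/
noncomputable abbrev sc (Y : ModuleCat.{u} B) : ShortComplex (ModuleCat.{u} B) :=
  (Finsupp.linearCombination B (id : Y → Y)).shortComplexKer

theorem sc_shortExact (Y : ModuleCat.{u} B) : (sc Y).ShortExact :=
  LinearMap.shortExact_shortComplexKer (Finsupp.linearCombination_id_surjective B Y)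

instance (Y : ModuleCat.{u} B) : Module.Flat B (sc Y).X₂ :=
  inferInstanceAs (Module.Flat B (Y →₀ B))

theorem lc_lmap {Y Y₁ : ModuleCat.{u} B} (g : Y ⟶ Y₁) (x : Y →₀ B) :
    Finsupp.linearCombination B (id : Y₁ → Y₁) (Finsupp.lmapDomain B B (g.hom : Y → Y₁) x)
      = g.hom (Finsupp.linearCombination B (id : Y → Y) x) := by
  induction x using Finsupp.induction_linear with
  | zero => simp
  | add x y hx hy => simp only [map_add, hx, hy]
  | single y b =>
    simp [Finsupp.lmapDomain_apply, Finsupp.mapDomain_single, Finsupp.linearCombination_single]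

theorem lmap_mem_ker {Y Y₁ : ModuleCat.{u} B} (g : Y ⟶ Y₁) (x : Y →₀ B)
    (hx : x ∈ LinearMap.ker (Finsupp.linearCombination B (id : Y → Y))) :
    Finsupp.lmapDomain B B (g.hom : Y → Y₁) x ∈
      LinearMap.ker (Finsupp.linearCombination B (id : Y₁ → Y₁)) := by
  rw [LinearMap.mem_ker] at hx ⊢
  rw [lc_lmap, hx, map_zero]

/-- the morphism of presentations induced by `g` -/
noncomputable def scMap {Y Y₁ : ModuleCat.{u} B} (g : Y ⟶ Y₁) : sc Y ⟶ sc Y₁ where
  τ₁ := ModuleCat.ofHom ((Finsupp.lmapDomain B B (g.hom : Y → Y₁)).restrict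
    (fun x hx => lmap_mem_ker g x hx))
  τ₂ := ModuleCat.ofHom (Finsupp.lmapDomain B B (g.hom : Y → Y₁))
  τ₃ := g
  comm₁₂ := by
    apply ModuleCat.hom_ext
    apply LinearMap.ext
    intro x
    rfl
  comm₂₃ := by
    apply ModuleCat.hom_ext
    apply LinearMap.ext
    intro x
    exact lc_lmap g x

/-- the syzygy functor -/
noncomputable def Om : ModuleCat.{u} B ⥤ ModuleCat.{u} B where
  obj Y := (sc Y).X₁
  map g := (scMap g).τ₁
  map_id Y := by
    apply ModuleCat.hom_ext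
    apply LinearMap.ext
    intro x
    apply Subtype.ext
    show Finsupp.lmapDomain B B _ x.1 = x.1
    simp only [ModuleCat.hom_id, LinearMap.id_coe, Finsupp.lmapDomain_apply, Finsupp.mapDomain_id]
  map_comp g h := by
    apply ModuleCat.hom_ext
    apply LinearMap.ext
    intro x
    apply Subtype.ext
    show Finsupp.lmapDomain B B _ x.1 = Finsupp.lmapDomain B B _ (Finsupp.lmapDomain B B _ x.1)
    simp only [ModuleCat.hom_comp, LinearMap.coe_comp, Finsupp.lmapDomain_apply,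
      Finsupp.mapDomain_comp]

/-- flat dimension `≤ n` (first variable) -/
def fdLE (n : ℕ) (Y : ModuleCat.{u} B) : Prop :=
  ∀ (X : ModuleCat.{u} B) (m : ℕ), n < m → IsZero (T m Y X)

theorem fdLE_mono {n n' : ℕ} (h : n ≤ n') {Y : ModuleCat.{u} B} (hY : fdLE n Y) : fdLE n' Y :=
  fun X m hm => hY X m (by omega)

theorem fdLE_of_flat (Y : ModuleCat.{u} B) [Module.Flat B Y] (n : ℕ) : fdLE n Y := by
  intro X m hm
  obtain ⟨m', rfl⟩ : ∃ m', m = m' + 1 := ⟨m - 1, by omega⟩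
  exact isZero_tor_succ_of_flat Y X m'

theorem fdLE_X₂ {S : ShortComplex (ModuleCat.{u} B)} (hS : S.ShortExact) {n : ℕ}
    (h₁ : fdLE n S.X₁) (h₃ : fdLE n S.X₃) : fdLE n S.X₂ :=
  fun X m hm => isZero_tor_X₂ S hS X m (h₁ X m hm) (h₃ X m hm)

theorem fdLE_X₃ {S : ShortComplex (ModuleCat.{u} B)} (hS : S.ShortExact) {n : ℕ}
    (h₁ : fdLE n S.X₁) (h₂ : fdLE (n + 1) S.X₂) : fdLE (n + 1) S.X₃ := by
  intro X m hm
  obtain ⟨m', rfl⟩ : ∃ m', m = m' + 1 := ⟨m - 1, by omega⟩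
  exact isZero_tor_succ_X₃ S hS X m' (h₂ X (m' + 1) hm) (h₁ X m' (by omega))

theorem fdLE_Om {n : ℕ} {Y : ModuleCat.{u} B} (h : fdLE (n + 1) Y) : fdLE n (Om.obj Y) := by
  intro X m hm
  obtain ⟨m', rfl⟩ : ∃ m', m = m' + 1 := ⟨m - 1, by omega⟩
  exact isZero_tor_X₁ (sc Y) (sc_shortExact Y) X (m' + 1) (h X (m' + 1 + 1) (by omega))
    (isZero_tor_succ_of_flat _ _ _)

theorem flat_of_fdLE_zero {Y : ModuleCat.{u} B} (h : fdLE 0 Y) : Module.Flat B Y := by
  rw [flat_iff_tor_one_quotient]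
  intro I _
  exact h _ 1 (by omega)

theorem tor_map_Om_eq_zero {Y Y₁ : ModuleCat.{u} B} (g : Y ⟶ Y₁) (Z : ModuleCat.{u} B) (j : ℕ)
    (h : ((Tor (ModuleCat.{u} B) (j + 1 + 1)).map g).app Z = 0) :
    ((Tor (ModuleCat.{u} B) (j + 1)).map (Om.map g)).app Z = 0 := by
  have hnat := torδ_naturality (scMap g) (sc_shortExact Y) (sc_shortExact Y₁) Z (j + 1)
  have hepi : Epi (torδ (sc Y) (sc_shortExact Y) Z (j + 1)) :=
    (tor_exact₁ (sc Y) (sc_shortExact Y) Z (j + 1)).epi_f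
      ((isZero_tor_succ_of_flat (sc Y).X₂ Z j).eq_of_tgt _ _)
  show ((Tor (ModuleCat.{u} B) (j + 1)).map (scMap g).τ₁).app Z = 0
  rw [← cancel_epi (torδ (sc Y) (sc_shortExact Y) Z (j + 1)), comp_zero, hnat]
  have e3 : (scMap g).τ₃ = g := rfl
  rw [e3, h, zero_comp]

end Syz

section BaseChange
variable (B A : Type u) [CommRing B] [CommRing A] [Algebra B A]

/-- base change `A ⊗[B] -` -/
noncomputable def E : ModuleCat.{u} B ⥤ ModuleCat.{u} A where
  obj Y := ModuleCat.of A (A ⊗[B] Y)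
  map g := ModuleCat.ofHom (g.hom.baseChange A)
  map_id Y := by
    apply ModuleCat.hom_ext
    simp
  map_comp g h := by
    apply ModuleCat.hom_ext
    simp [LinearMap.baseChange_comp]

variable {B A}

theorem E_map_zero (Y Y₁ : ModuleCat.{u} B) : (E B A).map (0 : Y ⟶ Y₁) = 0 := by
  apply ModuleCat.hom_ext
  simp [E]
  rfl

instance E_flat (Y : ModuleCat.{u} B) [Module.Flat B Y] : Module.Flat A ((E B A).obj Y) :=
  inferInstanceAs (Module.Flat A (A ⊗[B] Y))

theorem whisker_comm {X X' : ModuleCat.{u} B} (f : X ⟶ X') (w : A ⊗[B] X) :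
    (f ▷ (ModuleCat.of B A)) (TensorProduct.comm B A X w) =
      TensorProduct.comm B A X' (f.hom.lTensor A w) := by
  induction w using TensorProduct.induction_on with
  | zero => simp
  | tmul a x => rfl
  | add x y hx hy => simp only [map_add, hx, hy]

theorem lTensor_eq_zero_of_tor_one {S S' : ShortComplex (ModuleCat.{u} B)} (φ : S ⟶ S')
    (hS : S.ShortExact) (hS' : S'.ShortExact)
    (h : ((Tor (ModuleCat.{u} B) 1).map φ.τ₃).app (ModuleCat.of B A) = 0)
    (w : A ⊗[B] S.X₁) (hw : S.f.hom.lTensor A w = 0) : φ.τ₁.hom.lTensor A w = 0 := by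
  have h1 : (S.f ▷ (ModuleCat.of B A)) (TensorProduct.comm B A S.X₁ w) = 0 := by
    rw [whisker_comm, hw, map_zero]
  have h2 := whisker_eq_zero_of_tor_one_map_eq_zero φ hS hS' (ModuleCat.of B A) h _ h1
  rw [whisker_comm] at h2
  exact (TensorProduct.comm B A S'.X₁).injective (by rw [h2, map_zero])

variable (A) in
/-- the kernel sequence `0 → K(Y) → A ⊗ B^(Y) → A ⊗ Y → 0` over `A` -/
noncomputable abbrev Sig (Y : ModuleCat.{u} B) : ShortComplex (ModuleCat.{u} A) :=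
  (((E B A).map (sc Y).g).hom).shortComplexKer

theorem Sig_shortExact (Y : ModuleCat.{u} B) : (Sig A Y).ShortExact :=
  LinearMap.shortExact_shortComplexKer
    (LinearMap.lTensor_surjective A (Finsupp.linearCombination_id_surjective B Y))

instance (Y : ModuleCat.{u} B) : Module.Flat A (Sig A Y).X₂ :=
  inferInstanceAs (Module.Flat A (A ⊗[B] (Y →₀ B)))

theorem E_comm₂₃ {Y Y₁ : ModuleCat.{u} B} (g : Y ⟶ Y₁) :
    (E B A).map (scMap g).τ₂ ≫ (E B A).map (sc Y₁).g = (E B A).map (sc Y).g ≫ (E B A).map g := by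
  rw [← Functor.map_comp, ← Functor.map_comp]
  exact congrArg _ (scMap g).comm₂₃

theorem E_comm₁₂ {Y Y₁ : ModuleCat.{u} B} (g : Y ⟶ Y₁) :
    (E B A).map (sc Y).f ≫ (E B A).map (scMap g).τ₂ =
      (E B A).map (Om.map g) ≫ (E B A).map (sc Y₁).f := by
  rw [← Functor.map_comp, ← Functor.map_comp]
  exact congrArg _ (scMap g).comm₁₂.symm

/-- functoriality of `Sig` -/
noncomputable def SigMap {Y Y₁ : ModuleCat.{u} B} (g : Y ⟶ Y₁) : Sig A Y ⟶ Sig A Y₁ where
  τ₁ := ModuleCat.ofHom ((((E B A).map (scMap g).τ₂).hom).restrict (by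
    intro x hx
    rw [LinearMap.mem_ker] at hx ⊢
    have := congrArg (fun f => f.hom x) (E_comm₂₃ (A := A) g)
    simp only [ModuleCat.hom_comp, LinearMap.comp_apply] at this
    rw [this, hx, map_zero]))
  τ₂ := (E B A).map (scMap g).τ₂
  τ₃ := (E B A).map g
  comm₁₂ := by
    apply ModuleCat.hom_ext
    apply LinearMap.ext
    intro x
    rfl
  comm₂₃ := E_comm₂₃ g

/-- `A ⊗ Ω Y → K(Y)` -/
noncomputable def qq (Y : ModuleCat.{u} B) : (E B A).obj (Om.obj Y) ⟶ (Sig A Y).X₁ :=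
  ModuleCat.ofHom (((E B A).map (sc Y).f).hom.codRestrict _ (by
    intro w
    rw [LinearMap.mem_ker]
    have hc : (E B A).map (sc Y).f ≫ (E B A).map (sc Y).g = 0 := by
      rw [← Functor.map_comp, (sc Y).zero, E_map_zero]
    exact congrArg (fun f => f.hom w) hc))

theorem qq_surjective (Y : ModuleCat.{u} B) : Function.Surjective (qq (A := A) Y).hom := by
  intro k
  have hex : Function.Exact ((sc Y).f.hom.lTensor A) ((sc Y).g.hom.lTensor A) :=
    lTensor_exact A (LinearMap.exact_subtype_ker_map _)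
      (Finsupp.linearCombination_id_surjective B Y)
  obtain ⟨w, hw⟩ := (hex k.1).mp (LinearMap.mem_ker.mp k.2)
  exact ⟨w, Subtype.ext hw⟩

theorem qq_nat {Y Y₁ : ModuleCat.{u} B} (g : Y ⟶ Y₁) :
    qq Y ≫ (SigMap g).τ₁ = (E B A).map (Om.map g) ≫ qq (A := A) Y₁ := by
  apply ModuleCat.hom_ext
  apply LinearMap.ext
  intro w
  apply Subtype.ext
  exact congrArg (fun f => f.hom w) (E_comm₁₂ (A := A) g)

theorem exists_lam {Y Y₁ : ModuleCat.{u} B} (g : Y ⟶ Y₁)
    (h : ((Tor (ModuleCat.{u} B) 1).map g).app (ModuleCat.of B A) = 0) :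
    ∃ lam : (Sig A Y).X₁ ⟶ (E B A).obj (Om.obj Y₁), qq Y ≫ lam = (E B A).map (Om.map g) := by
  have hker : LinearMap.ker (qq (A := A) Y).hom ≤ LinearMap.ker ((E B A).map (Om.map g)).hom := by
    intro w hw
    rw [LinearMap.mem_ker] at hw ⊢
    have hw' : (sc Y).f.hom.lTensor A w = 0 := congrArg Subtype.val hw
    exact lTensor_eq_zero_of_tor_one (scMap g) (sc_shortExact Y) (sc_shortExact Y₁) h w hw'
  let e := LinearMap.quotKerEquivOfSurjective _ (qq_surjective (A := A) Y)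
  refine ⟨ModuleCat.ofHom (((LinearMap.ker (qq (A := A) Y).hom).liftQ _ hker) ∘ₗ
    e.symm.toLinearMap), ?_⟩
  apply ModuleCat.hom_ext
  apply LinearMap.ext
  intro w
  have hsymm : e.symm ((qq (A := A) Y).hom w) = Submodule.Quotient.mk w := by
    rw [LinearEquiv.symm_apply_eq]
    rfl
  show (LinearMap.ker (qq (A := A) Y).hom).liftQ _ hker (e.symm ((qq (A := A) Y).hom w)) = _
  rw [hsymm]
  rfl

theorem step {Y Y₁ Y₂ : ModuleCat.{u} B} (g₁ : Y ⟶ Y₁) (g₂ : Y₁ ⟶ Y₂)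
    (h₁ : ((Tor (ModuleCat.{u} B) 1).map g₁).app (ModuleCat.of B A) = 0)
    (M : ModuleCat.{u} A) (i : ℕ)
    (h₂ : ((Tor (ModuleCat.{u} A) i).map ((E B A).map (Om.map g₂))).app M = 0) :
    ((Tor (ModuleCat.{u} A) (i + 1)).map ((E B A).map (g₁ ≫ g₂))).app M = 0 := by
  obtain ⟨lam, hlam⟩ := exists_lam (A := A) g₁ h₁
  have hS := Sig_shortExact (A := A) Y
  have hS₂ := Sig_shortExact (A := A) Y₂
  have hnat := torδ_naturality (SigMap (A := A) (g₁ ≫ g₂)) hS hS₂ M i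
  have hmono : Mono (torδ (Sig A Y₂) hS₂ M i) :=
    (tor_exact₃ (Sig A Y₂) hS₂ M i).mono_g
      ((isZero_tor_succ_of_flat (Sig A Y₂).X₂ M i).eq_of_src _ _)
  have hfac : (SigMap (A := A) (g₁ ≫ g₂)).τ₁ = lam ≫ (E B A).map (Om.map g₂) ≫ qq Y₂ := by
    haveI : Epi (qq (A := A) Y) := (ModuleCat.epi_iff_surjective _).mpr (qq_surjective Y)
    rw [← cancel_epi (qq (A := A) Y), qq_nat, reassoc_of% hlam, Functor.map_comp,
      Functor.map_comp, Category.assoc]
  rw [← cancel_mono (torδ (Sig A Y₂) hS₂ M i), zero_comp]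
  have e3 : ((Tor (ModuleCat.{u} A) (i + 1)).map (SigMap (A := A) (g₁ ≫ g₂)).τ₃).app M =
      ((Tor (ModuleCat.{u} A) (i + 1)).map ((E B A).map (g₁ ≫ g₂))).app M := rfl
  rw [← e3, ← hnat, hfac, Functor.map_comp, Functor.map_comp, NatTrans.comp_app,
    NatTrans.comp_app, h₂, zero_comp, comp_zero, comp_zero]

theorem hom_op_subsingleton {q q' : ℕ} (f g : (op q : ℕᵒᵖ) ⟶ op q') : f = g :=
  Quiver.Hom.unop_inj (Subsingleton.elim _ _)

/-- **Change of rings.** -/
theorem main (n c : ℕ) : ∀ (𝒴 : ℕᵒᵖ ⥤ ModuleCat.{u} B),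
    (∀ q : ℕ, fdLE n (𝒴.obj (op q))) →
    (∀ (q q' : ℕ) (f : (op q : ℕᵒᵖ) ⟶ op q') (j : ℕ), q' + c ≤ q →
      ((Tor (ModuleCat.{u} B) (j + 1)).map (𝒴.map f)).app (ModuleCat.of B A) = 0) →
    ∀ (q q' : ℕ) (f : (op q : ℕᵒᵖ) ⟶ op q') (M : ModuleCat.{u} A) (i : ℕ), q' + n * c ≤ q → n < i →
      ((Tor (ModuleCat.{u} A) i).map ((E B A).map (𝒴.map f))).app M = 0 := by
  induction n with
  | zero =>
    intro 𝒴 hfd _ q q' f M i _ hi
    obtain ⟨i', rfl⟩ : ∃ i', i = i' + 1 := ⟨i - 1, by omega⟩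
    haveI : Module.Flat B (𝒴.obj (op q)) := flat_of_fdLE_zero (hfd q)
    exact (isZero_tor_succ_of_flat ((E B A).obj (𝒴.obj (op q))) M i').eq_of_src _ _
  | succ n ih =>
    intro 𝒴 hfd hz q q' f M i hq hi
    obtain ⟨i', rfl⟩ : ∃ i', i = i' + 1 := ⟨i - 1, by omega⟩
    have hmul : (n + 1) * c = n * c + c := by ring
    have hq₁ : (q' + n * c) + c ≤ q := by omega
    let f₁ : (op q : ℕᵒᵖ) ⟶ op (q' + n * c) := (homOfLE (by omega : q' + n * c ≤ q)).op
    let f₂ : (op (q' + n * c) : ℕᵒᵖ) ⟶ op q' := (homOfLE (by omega : q' ≤ q' + n * c)).op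
    have hf : f = f₁ ≫ f₂ := hom_op_subsingleton _ _
    rw [hf, Functor.map_comp]
    apply step (A := A) (𝒴.map f₁) (𝒴.map f₂) (hz q (q' + n * c) f₁ 0 hq₁) M i'
    exact ih (𝒴 ⋙ Om) (fun q => fdLE_Om (hfd q))
      (fun q q' f j h => tor_map_Om_eq_zero (𝒴.map f) _ j (hz q q' f (j + 1) h))
      (q' + n * c) q' f₂ M i' (le_refl _) (by omega)

end BaseChange

end Groth.Agent.Lib.Helper5.TorPro
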