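import Mathlib
import Groth.Agent.Lib.Helper5.TorPro.ChangeRings

/-!
# Flat dimension of `A[x₁..x_r] / (x₁..x_r)^q` is at most `r` (helper5)
-/

universe u
open CategoryTheory MonoidalCategory Limits TensorProduct Opposite MvPolynomial

namespace Groth.Agent.Lib.Helper5.TorPro
open Groth.Agent.Helper1.TorL

section Colon
variable {R : Type u} [CommRing R] (𝔞 𝔟 𝔠 : Ideal R) (x : R)
  (h₁ : ∀ f, x * f ∈ 𝔞 ↔ f ∈ 𝔟) (h₂ : 𝔠 = 𝔞 ⊔ Ideal.span {x})

/-- The short complex `R/(𝔞 : x) --x--> R/𝔞 → R/(𝔞 + (x))`. -/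
noncomputable abbrev colonSC : ShortComplex (ModuleCat.{u} R) :=
  ModuleCat.shortComplexOfCompEqZero
    (Submodule.mapQ 𝔟 𝔞 (LinearMap.mul R R x) (fun f hf => (h₁ f).mpr hf))
    (Submodule.factor (le_of_eq_sup h₂))
    (by
      apply LinearMap.ext
      intro y
      obtain ⟨a, rfl⟩ := Submodule.mkQ_surjective _ y
      rw [LinearMap.comp_apply, LinearMap.zero_apply, Submodule.mkQ_apply, Submodule.mapQ_apply,
        ← Submodule.mkQ_apply, Submodule.factor_mk, Submodule.mkQ_apply,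
        Submodule.Quotient.mk_eq_zero, h₂]
      exact Ideal.mem_sup_right (Ideal.mul_mem_right _ _ (Ideal.mem_span_singleton_self x)))

theorem colonSC_shortExact : (colonSC 𝔞 𝔟 𝔠 x h₁ h₂).ShortExact := by
  refine ModuleCat.shortComplex_shortExact _ ?_ ?_ (Submodule.factor_surjective (le_of_eq_sup h₂))
  · intro y
    obtain ⟨a, rfl⟩ := Submodule.mkQ_surjective _ y
    show Submodule.factor (le_of_eq_sup h₂) (𝔞.mkQ a) = 0 ↔ _
    have hmem : a ∈ 𝔠 ↔ ∃ a' ∈ 𝔞, ∃ c ∈ Ideal.span {x}, a' + c = a := by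
      rw [h₂]; exact Submodule.mem_sup
    rw [Submodule.factor_mk, Submodule.mkQ_apply, Submodule.Quotient.mk_eq_zero, hmem]
    constructor
    · rintro ⟨a', ha', c, hc, rfl⟩
      obtain ⟨d, rfl⟩ := Ideal.mem_span_singleton'.mp hc
      refine ⟨𝔟.mkQ d, ?_⟩
      change (Submodule.mapQ 𝔟 𝔞 (LinearMap.mul R R x) (fun f hf => (h₁ f).mpr hf))
        (Submodule.Quotient.mk d) = Submodule.Quotient.mk (a' + d * x)
      rw [Submodule.mapQ_apply, ← sub_eq_zero, ← Submodule.Quotient.mk_sub,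
        Submodule.Quotient.mk_eq_zero]
      have : LinearMap.mul R R x d - (a' + d * x) = -a' := by
        rw [LinearMap.mul_apply']; ring
      rw [this]
      exact neg_mem ha'
    · rintro ⟨z, hz⟩
      obtain ⟨d, rfl⟩ := Submodule.mkQ_surjective _ z
      have hz' : (Submodule.Quotient.mk (LinearMap.mul R R x d) : R ⧸ 𝔞) =
          Submodule.Quotient.mk a := hz
      rw [← sub_eq_zero, ← Submodule.Quotient.mk_sub, Submodule.Quotient.mk_eq_zero,
        LinearMap.mul_apply'] at hz'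
      refine ⟨a - x * d, ?_, x * d, ?_, by ring⟩
      · have := neg_mem hz'
        rwa [neg_sub] at this
      · exact Ideal.mul_mem_right _ _ (Ideal.mem_span_singleton_self x)
  · intro y y' hyy
    obtain ⟨a, rfl⟩ := Submodule.mkQ_surjective _ y
    obtain ⟨a', rfl⟩ := Submodule.mkQ_surjective _ y'
    have h : (Submodule.Quotient.mk (LinearMap.mul R R x a) : R ⧸ 𝔞) =
        Submodule.Quotient.mk (LinearMap.mul R R x a') := hyy
    rw [← sub_eq_zero, ← Submodule.Quotient.mk_sub, Submodule.Quotient.mk_eq_zero,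
      LinearMap.mul_apply', LinearMap.mul_apply', ← mul_sub] at h
    show (Submodule.Quotient.mk a : R ⧸ 𝔟) = Submodule.Quotient.mk a'
    rw [← sub_eq_zero, ← Submodule.Quotient.mk_sub, Submodule.Quotient.mk_eq_zero]
    exact (h₁ _).mp h

end Colon

section Mono
variable (A : Type u) [CommRing A] (r : ℕ)

/-- the monomial ideal of an upper set -/
noncomputable abbrev mI (S : Set (Fin r →₀ ℕ)) (hS : IsUpperSet S) :
    Ideal (MvPolynomial (Fin r) A) :=
  restrictSupportIdeal A S hS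

variable {A r}

theorem mem_mI {S : Set (Fin r →₀ ℕ)} {hS : IsUpperSet S} {f : MvPolynomial (Fin r) A} :
    f ∈ mI A r S hS ↔ ∀ m ∈ f.support, m ∈ S := Iff.rfl

theorem X_mul_mem_mI {S S₁ : Set (Fin r →₀ ℕ)} (hS : IsUpperSet S) (hS₁ : IsUpperSet S₁)
    (i : Fin r) (h : ∀ m, m + Finsupp.single i 1 ∈ S ↔ m ∈ S₁) (f : MvPolynomial (Fin r) A) :
    X i * f ∈ mI A r S hS ↔ f ∈ mI A r S₁ hS₁ := by
  rw [mem_mI, mem_mI, support_X_mul]
  constructor
  · intro H m hm
    rw [← h, add_comm]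
    exact H _ (Finset.mem_map_of_mem _ hm)
  · intro H m hm
    obtain ⟨m', hm', rfl⟩ := Finset.mem_map.mp hm
    show Finsupp.single i 1 + m' ∈ S
    rw [add_comm, h]
    exact H m' hm'

theorem mI_sup {S S₃ : Set (Fin r →₀ ℕ)} (hS : IsUpperSet S) (hS₃ : IsUpperSet S₃)
    (i : Fin r) (h : ∀ m, m ∈ S₃ ↔ m ∈ S ∨ m i ≠ 0) :
    mI A r S₃ hS₃ = mI A r S hS ⊔ Ideal.span {(X i : MvPolynomial (Fin r) A)} := by
  apply le_antisymm
  · intro f hf
    rw [← modMonomial_add_divMonomial_single f i]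
    refine Submodule.add_mem_sup ?_ (Ideal.mul_mem_right _ _ (Ideal.mem_span_singleton_self _))
    rw [mem_mI]
    intro m hm
    rw [mem_support_iff] at hm
    by_cases hle : Finsupp.single i 1 ≤ m
    · exact absurd (coeff_modMonomial_of_le f hle) hm
    · rw [coeff_modMonomial_of_not_le f hle] at hm
      have hm3 : m ∈ S₃ := (mem_mI.mp hf) m (mem_support_iff.mpr hm)
      rcases (h m).mp hm3 with h1 | h1
      · exact h1
      · exfalso
        apply hle
        rw [Finsupp.single_le_iff]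
        exact Nat.one_le_iff_ne_zero.mpr h1
  · apply sup_le
    · intro f hf m hm
      exact (h m).mpr (Or.inl ((mem_mI.mp hf) m hm))
    · rw [Ideal.span_le, Set.singleton_subset_iff, SetLike.mem_coe, mem_mI]
      intro m hm
      rw [mem_support_iff, coeff_X] at hm
      have hm' : Finsupp.single i 1 = m := by
        by_contra hne
        rw [if_neg hne] at hm
        exact hm rfl
      refine (h m).mpr (Or.inr ?_)
      rw [← hm']
      simp

theorem fdLE_mI_congr {S S' : Set (Fin r →₀ ℕ)} (hS : IsUpperSet S) (hS' : IsUpperSet S')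
    (h : S = S') {n : ℕ}
    (H : fdLE n (ModuleCat.of (MvPolynomial (Fin r) A) (MvPolynomial (Fin r) A ⧸ mI A r S hS))) :
    fdLE n (ModuleCat.of (MvPolynomial (Fin r) A) (MvPolynomial (Fin r) A ⧸ mI A r S' hS')) := by
  subst h
  exact H

theorem fdLE_mI_empty (n : ℕ) :
    fdLE n (ModuleCat.of (MvPolynomial (Fin r) A)
      (MvPolynomial (Fin r) A ⧸ mI A r ∅ isUpperSet_empty)) := by
  have hbot : mI A r ∅ isUpperSet_empty = ⊥ := by
    rw [eq_bot_iff]
    intro f hf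
    rw [Submodule.mem_bot]
    apply MvPolynomial.support_eq_empty.mp
    rw [Finset.eq_empty_iff_forall_notMem]
    intro m hm
    exact ((mem_mI.mp hf) m hm).elim
  haveI : Module.Flat (MvPolynomial (Fin r) A)
      (MvPolynomial (Fin r) A ⧸ mI A r ∅ isUpperSet_empty) :=
    Module.Flat.of_linearEquiv (Submodule.quotEquivOfEqBot _ hbot)
  exact fdLE_of_flat (ModuleCat.of (MvPolynomial (Fin r) A)
      (MvPolynomial (Fin r) A ⧸ mI A r ∅ isUpperSet_empty)) n

theorem fdLE_mI_univ (n : ℕ) :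
    fdLE n (ModuleCat.of (MvPolynomial (Fin r) A)
      (MvPolynomial (Fin r) A ⧸ mI A r Set.univ isUpperSet_univ)) := by
  have htop : mI A r Set.univ isUpperSet_univ = ⊤ := by
    rw [eq_top_iff]
    intro f _ m _
    trivial
  haveI : Subsingleton (MvPolynomial (Fin r) A ⧸ mI A r Set.univ isUpperSet_univ) :=
    Submodule.Quotient.subsingleton_iff.mpr htop
  haveI : Module.Flat (MvPolynomial (Fin r) A)
      (MvPolynomial (Fin r) A ⧸ mI A r Set.univ isUpperSet_univ) := inferInstance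
  exact fdLE_of_flat (ModuleCat.of (MvPolynomial (Fin r) A)
      (MvPolynomial (Fin r) A ⧸ mI A r Set.univ isUpperSet_univ)) n

variable (r) in
/-- monomials involving one of the first `k` variables -/
def Sp (k : ℕ) : Set (Fin r →₀ ℕ) := {m | ∃ i : Fin r, i.val < k ∧ m i ≠ 0}

theorem Sp_upper (k : ℕ) : IsUpperSet (Sp r k) := by
  rintro m m' hmm ⟨i, hi, hne⟩
  refine ⟨i, hi, ?_⟩
  have := hmm i
  omega

variable (r) in
/-- monomials of degree `≥ q` or involving a variable of index `≥ k` -/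
def Sq (k q : ℕ) : Set (Fin r →₀ ℕ) :=
  {m | q ≤ Finsupp.degree m ∨ ∃ i : Fin r, k ≤ i.val ∧ m i ≠ 0}

theorem Sq_upper (k q : ℕ) : IsUpperSet (Sq r k q) := by
  rintro m m' hmm (h | ⟨i, hi, hne⟩)
  · exact Or.inl (h.trans (Finsupp.degree_mono hmm))
  · refine Or.inr ⟨i, hi, ?_⟩
    have := hmm i
    omega

theorem Sp_colon (k : ℕ) (hk : k < r) (m : Fin r →₀ ℕ) :
    m + Finsupp.single (⟨k, hk⟩ : Fin r) 1 ∈ Sp r k ↔ m ∈ Sp r k := by
  constructor
  · rintro ⟨j, hj, hne⟩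
    refine ⟨j, hj, ?_⟩
    have hij : (⟨k, hk⟩ : Fin r) ≠ j := by
      intro e
      subst e
      simp at hj
    simpa [Finsupp.add_apply, Finsupp.single_apply, hij] using hne
  · rintro ⟨j, hj, hne⟩
    refine ⟨j, hj, ?_⟩
    have hij : (⟨k, hk⟩ : Fin r) ≠ j := by
      intro e
      subst e
      simp at hj
    simpa [Finsupp.add_apply, Finsupp.single_apply, hij] using hne

theorem Sp_succ (k : ℕ) (hk : k < r) (m : Fin r →₀ ℕ) :
    m ∈ Sp r (k + 1) ↔ m ∈ Sp r k ∨ m (⟨k, hk⟩ : Fin r) ≠ 0 := by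
  constructor
  · rintro ⟨j, hj, hne⟩
    by_cases hjk : j.val < k
    · exact Or.inl ⟨j, hjk, hne⟩
    · have : j = ⟨k, hk⟩ := Fin.ext (by simp; omega)
      subst this
      exact Or.inr hne
  · rintro (⟨j, hj, hne⟩ | h)
    · exact ⟨j, by omega, hne⟩
    · exact ⟨⟨k, hk⟩, by simp, h⟩

theorem fdLE_Sp (k : ℕ) (hk : k ≤ r) :
    fdLE k (ModuleCat.of (MvPolynomial (Fin r) A)
      (MvPolynomial (Fin r) A ⧸ mI A r (Sp r k) (Sp_upper k))) := by
  induction k with
  | zero =>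
    have h0 : (∅ : Set (Fin r →₀ ℕ)) = Sp r 0 := by
      ext m
      simp [Sp]
    exact fdLE_mI_congr isUpperSet_empty (Sp_upper 0) h0 (fdLE_mI_empty 0)
  | succ k ih =>
    have hk' : k < r := hk
    have h₁ := X_mul_mem_mI (A := A) (Sp_upper k) (Sp_upper k) ⟨k, hk'⟩ (Sp_colon k hk')
    have h₂ := mI_sup (A := A) (Sp_upper k) (Sp_upper (k + 1)) ⟨k, hk'⟩ (Sp_succ k hk')
    have hS := colonSC_shortExact _ _ _ _ h₁ h₂
    exact fdLE_X₃ hS (ih (by omega)) (fdLE_mono (by omega) (ih (by omega)))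

theorem Sq_colon (k q : ℕ) (hk : k < r) (m : Fin r →₀ ℕ) :
    m + Finsupp.single (⟨k, hk⟩ : Fin r) 1 ∈ Sq r (k + 1) (q + 1) ↔ m ∈ Sq r (k + 1) q := by
  have hdeg : Finsupp.degree (m + Finsupp.single (⟨k, hk⟩ : Fin r) 1) = Finsupp.degree m + 1 := by
    rw [map_add, Finsupp.degree_single]
  have hne : ∀ j : Fin r, k + 1 ≤ j.val → (⟨k, hk⟩ : Fin r) ≠ j := by
    intro j hj e
    subst e
    simp at hj
  constructor
  · rintro (h | ⟨j, hj, hj'⟩)
    · exact Or.inl (by rw [hdeg] at h; omega)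
    · refine Or.inr ⟨j, hj, ?_⟩
      simpa [Finsupp.add_apply, Finsupp.single_apply, hne j hj] using hj'
  · rintro (h | ⟨j, hj, hj'⟩)
    · exact Or.inl (by rw [hdeg]; omega)
    · refine Or.inr ⟨j, hj, ?_⟩
      simpa [Finsupp.add_apply, Finsupp.single_apply, hne j hj] using hj'

theorem Sq_succ (k q : ℕ) (hk : k < r) (m : Fin r →₀ ℕ) :
    m ∈ Sq r k q ↔ m ∈ Sq r (k + 1) q ∨ m (⟨k, hk⟩ : Fin r) ≠ 0 := by
  constructor
  · rintro (h | ⟨j, hj, hne⟩)
    · exact Or.inl (Or.inl h)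
    · by_cases hjk : k + 1 ≤ j.val
      · exact Or.inl (Or.inr ⟨j, hjk, hne⟩)
      · have : j = ⟨k, hk⟩ := Fin.ext (by simp; omega)
        subst this
        exact Or.inr hne
  · rintro ((h | ⟨j, hj, hne⟩) | h)
    · exact Or.inl h
    · exact Or.inr ⟨j, by omega, hne⟩
    · exact Or.inr ⟨⟨k, hk⟩, le_refl _, h⟩

theorem Sq_zero (k : ℕ) : (Set.univ : Set (Fin r →₀ ℕ)) = Sq r k 0 := by
  ext m
  simp [Sq]

theorem Sq_zero_left (q : ℕ) : Sp r r = Sq r 0 (q + 1) := by
  ext m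
  constructor
  · rintro ⟨i, _, hne⟩
    exact Or.inr ⟨i, Nat.zero_le _, hne⟩
  · rintro (h | ⟨i, _, hne⟩)
    · by_contra hcon
      have hm : m = 0 := by
        ext i
        by_contra hi
        exact hcon ⟨i, i.isLt, hi⟩
      rw [hm, map_zero] at h
      omega
    · exact ⟨i, i.isLt, hne⟩

theorem fdLE_Sq (k : ℕ) (hk : k ≤ r) : ∀ q : ℕ,
    fdLE r (ModuleCat.of (MvPolynomial (Fin r) A)
      (MvPolynomial (Fin r) A ⧸ mI A r (Sq r k q) (Sq_upper k q))) := by
  induction k with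
  | zero =>
    intro q
    cases q with
    | zero => exact fdLE_mI_congr isUpperSet_univ (Sq_upper 0 0) (Sq_zero 0) (fdLE_mI_univ r)
    | succ q =>
      exact fdLE_mI_congr (Sp_upper r) (Sq_upper 0 (q + 1)) (Sq_zero_left q) (fdLE_Sp r (le_refl r))
  | succ k ih =>
    intro q
    have hk' : k < r := hk
    induction q with
    | zero =>
      exact fdLE_mI_congr isUpperSet_univ (Sq_upper (k + 1) 0) (Sq_zero (k + 1)) (fdLE_mI_univ r)
    | succ q ihq =>
      have h₁ := X_mul_mem_mI (A := A) (Sq_upper (k + 1) (q + 1)) (Sq_upper (k + 1) q) ⟨k, hk'⟩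
        (Sq_colon k q hk')
      have h₂ := mI_sup (A := A) (Sq_upper (k + 1) (q + 1)) (Sq_upper k (q + 1)) ⟨k, hk'⟩
        (Sq_succ k (q + 1) hk')
      have hS := colonSC_shortExact _ _ _ _ h₁ h₂
      exact fdLE_X₂ hS ihq (ih (by omega) (q + 1))

theorem pow_idealOfVars_eq_mI (q : ℕ) :
    idealOfVars (Fin r) A ^ q = mI A r (Sq r r q) (Sq_upper r q) := by
  ext f
  rw [mem_pow_idealOfVars_iff, mem_mI]
  constructor
  · intro H m hm
    exact Or.inl (H m hm)
  · intro H m hm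
    rcases H m hm with h | ⟨i, hi, _⟩
    · exact h
    · exact absurd i.isLt (by omega)

/-- **`A[x₁..x_r]/(x)^q` has flat dimension `≤ r`.** -/
theorem fdLE_pow_idealOfVars (q : ℕ) :
    fdLE r (ModuleCat.of (MvPolynomial (Fin r) A)
      (MvPolynomial (Fin r) A ⧸ idealOfVars (Fin r) A ^ q)) := by
  rw [pow_idealOfVars_eq_mI]
  exact fdLE_Sq r (le_refl r) q

end Mono

end Groth.Agent.Lib.Helper5.TorPro
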