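import Mathlib
import Groth.Agent.Lib.Helper5.TorPro.Mono
import Groth.Agent.Lib.Helper9.TorPow

/-!
# Pro-vanishing and uniform annihilation of `Tor_i(M, A/I^q)` for `i >` number of generators (helper5)
-/

universe u
open CategoryTheory MonoidalCategory Limits TensorProduct Opposite MvPolynomial

namespace Groth.Agent.Lib.Helper5.TorPro
open Groth.Agent.Helper1.TorL Groth.Agent.Helper1.TorNat Groth.Agent.Helper9.Bal
  Groth.Agent.Helper9.TorSecond Groth.Agent.Helper9.TorPow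

section Flip
variable {R : Type u} [CommRing R]

theorem tor_map_app_eq_zero_of_obj_map {X Y Y' : ModuleCat.{u} R} (g : Y ⟶ Y') (n : ℕ)
    (h : ((Tor (ModuleCat.{u} R) n).obj X).map g = 0) :
    ((Tor (ModuleCat.{u} R) n).map g).app X = 0 := by
  rw [tor_obj_map_eq X g n] at h
  let e := (torSymmIso X n).app Y
  let e' := (torSymmIso X n).app Y'
  have h1 : e.inv ≫ (((Tor (ModuleCat.{u} R) n).map g).app X ≫ e'.hom) = e.inv ≫ 0 := by
    rw [comp_zero]
    exact h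
  have h2 := (Iso.cancel_iso_inv_left e _ _).mp h1
  have h3 : ((Tor (ModuleCat.{u} R) n).map g).app X ≫ e'.hom = 0 ≫ e'.hom := by
    rw [zero_comp]
    exact h2
  exact (Iso.cancel_iso_hom_right _ _ e').mp h3

theorem tor_obj_map_eq_zero_of_app {X Y Y' : ModuleCat.{u} R} (g : Y ⟶ Y') (n : ℕ)
    (h : ((Tor (ModuleCat.{u} R) n).map g).app X = 0) :
    ((Tor (ModuleCat.{u} R) n).obj X).map g = 0 := by
  rw [tor_obj_map_eq, h, zero_comp, comp_zero]

/-- helper9's projection `R/J ⟶ R/J'` -/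
noncomputable abbrev qpi {J J' : Ideal R} (h : J ≤ J') :
    ModuleCat.of R (R ⧸ J) ⟶ ModuleCat.of R (R ⧸ J') :=
  Groth.Agent.Helper9.TorPow.pi h

/-- the tower `q ↦ R/J^q` -/
noncomputable def tower (J : Ideal R) : ℕᵒᵖ ⥤ ModuleCat.{u} R where
  obj q := ModuleCat.of R (R ⧸ J ^ q.unop)
  map {q q'} f := qpi (Ideal.pow_le_pow_right (leOfHom f.unop))
  map_id q := by
    apply ModuleCat.hom_ext
    apply LinearMap.ext
    intro x
    obtain ⟨y, rfl⟩ := Submodule.mkQ_surjective _ x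
    rfl
  map_comp f g := by
    rw [pi_comp]

end Flip

section Generic
variable {B A : Type u} [CommRing B] [CommRing A] [Algebra B A]

/-- `A/𝔟A ≅ A ⊗[B] B/𝔟` -/
noncomputable def EquotIso (𝔟 : Ideal B) :
    ModuleCat.of A (A ⧸ 𝔟.map (algebraMap B A)) ≅ (E B A).obj (ModuleCat.of B (B ⧸ 𝔟)) :=
  (Algebra.TensorProduct.quotIdealMapEquivTensorQuot A 𝔟).toLinearEquiv.toModuleIso

theorem EquotIso_nat {𝔟 𝔟' : Ideal B} (h : 𝔟 ≤ 𝔟') :
    qpi (Ideal.map_mono h) ≫ (EquotIso (A := A) 𝔟').hom =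
      (EquotIso (A := A) 𝔟).hom ≫ (E B A).map (qpi h) := by
  apply ModuleCat.hom_ext
  apply LinearMap.ext
  intro y
  obtain ⟨b, rfl⟩ := Submodule.mkQ_surjective _ y
  rfl

theorem pi_eq {𝔟 𝔟' : Ideal B} (h : 𝔟 ≤ 𝔟') :
    qpi (Ideal.map_mono h) =
      (EquotIso (A := A) 𝔟).hom ≫ (E B A).map (qpi h) ≫ (EquotIso (A := A) 𝔟').inv := by
  rw [← Category.assoc, Iso.eq_comp_inv]
  exact EquotIso_nat h

theorem tor_map_pi_eq_zero {𝔟 𝔟' : Ideal B} (h : 𝔟 ≤ 𝔟') (M : ModuleCat.{u} A) (i : ℕ)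
    (hz : ((Tor (ModuleCat.{u} A) i).map ((E B A).map (qpi h))).app M = 0) :
    ((Tor (ModuleCat.{u} A) i).map (qpi (Ideal.map_mono h :
      𝔟.map (algebraMap B A) ≤ 𝔟'.map (algebraMap B A)))).app M = 0 := by
  rw [pi_eq h, Functor.map_comp, Functor.map_comp, NatTrans.comp_app, NatTrans.comp_app, hz,
    zero_comp, comp_zero]

theorem generic [IsNoetherianRing B] [Module.Finite B A] (J : Ideal B) (n : ℕ)
    (hfd : ∀ q : ℕ, fdLE n (ModuleCat.of B (B ⧸ J ^ q))) :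
    ∃ c : ℕ, ∀ (q q' : ℕ) (h : J ^ q ≤ J ^ q'), q' + c ≤ q →
      ∀ (M : ModuleCat.{u} A) (i : ℕ), n < i →
        ((Tor (ModuleCat.{u} A) i).map ((E B A).map (qpi h))).app M = 0 := by
  choose cf hcf using fun j : ℕ => lemmaA J j A
  let c₀ := ∑ j ∈ Finset.range n, cf j
  have hz : ∀ (q q' : ℕ) (f : (op q : ℕᵒᵖ) ⟶ op q') (j : ℕ), q' + c₀ ≤ q →
      ((Tor (ModuleCat.{u} B) (j + 1)).map ((tower J).map f)).app (ModuleCat.of B A) = 0 := by
    intro q q' f j hq
    by_cases hj : j < n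
    · have hle : cf j ≤ c₀ := Finset.single_le_sum (f := cf) (fun _ _ => Nat.zero_le _)
        (Finset.mem_range.mpr hj)
      exact tor_map_app_eq_zero_of_obj_map _ _ (hcf j q' q (by omega) _)
    · exact ((hfd q) _ (j + 1) (by omega)).eq_of_src _ _
  refine ⟨n * c₀, fun q q' h hq M i hi => ?_⟩
  have hqq : q' ≤ q := by
    have : 0 ≤ n * c₀ := Nat.zero_le _
    omega
  exact main (A := A) n c₀ (tower J) (fun q => hfd q) hz q q' (homOfLE hqq).op M i hq hi

end Generic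

section Eval
variable (A : Type u) [CommRing A] (r : ℕ) (a : Fin r → A)

/-- the algebra structure `x_i ↦ a_i` -/
noncomputable abbrev evalAlg : Algebra (MvPolynomial (Fin r) A) A :=
  (MvPolynomial.aeval a).toRingHom.toAlgebra

theorem algebraMap_evalAlg (p : MvPolynomial (Fin r) A) :
    letI := evalAlg A r a
    algebraMap (MvPolynomial (Fin r) A) A p = MvPolynomial.aeval a p := by
  letI := evalAlg A r a
  rfl

theorem map_idealOfVars_pow (q : ℕ) :
    letI := evalAlg A r a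
    (idealOfVars (Fin r) A ^ q).map (algebraMap (MvPolynomial (Fin r) A) A) =
      Ideal.span (Set.range a) ^ q := by
  letI := evalAlg A r a
  rw [Ideal.map_pow]
  congr 1
  rw [idealOfVars, Ideal.map_span, ← Set.range_comp]
  congr 2
  funext i
  show algebraMap (MvPolynomial (Fin r) A) A (X i) = a i
  rw [algebraMap_evalAlg, aeval_X]

theorem finite_evalAlg :
    letI := evalAlg A r a
    Module.Finite (MvPolynomial (Fin r) A) A := by
  letI := evalAlg A r a
  apply Module.Finite.of_surjective (Algebra.linearMap (MvPolynomial (Fin r) A) A)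
  intro x
  refine ⟨C x, ?_⟩
  rw [Algebra.linearMap_apply, algebraMap_evalAlg, aeval_C]
  rfl

end Eval

section Main
variable {A : Type u} [CommRing A]

theorem transport {𝔞 𝔞' 𝔞₁ 𝔞₁' : Ideal A} (e : 𝔞 = 𝔞₁) (e' : 𝔞' = 𝔞₁') (h : 𝔞 ≤ 𝔞')
    (h₁ : 𝔞₁ ≤ 𝔞₁') (M : ModuleCat.{u} A) (i : ℕ)
    (hz : ((Tor (ModuleCat.{u} A) i).map (qpi h)).app M = 0) :
    ((Tor (ModuleCat.{u} A) i).map (qpi h₁)).app M = 0 := by
  subst e e'
  exact hz

/-- **Pro-vanishing of `Tor_i(M, A/I^q)` for `i > r`.** -/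
theorem torPro [IsNoetherianRing A] (r : ℕ) (a : Fin r → A) (I : Ideal A)
    (hI : I = Ideal.span (Set.range a)) :
    ∃ c : ℕ, ∀ (q q' : ℕ), q' + c ≤ q → ∀ (h : I ^ q ≤ I ^ q') (M : ModuleCat.{u} A) (i : ℕ),
      r < i → ((Tor (ModuleCat.{u} A) i).obj M).map (qpi h) = 0 := by
  subst hI
  letI := evalAlg A r a
  haveI := finite_evalAlg A r a
  obtain ⟨c, hc⟩ := generic (A := A) (idealOfVars (Fin r) A) r (fun q => fdLE_pow_idealOfVars q)
  refine ⟨c, fun q q' hq h M i hi => ?_⟩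
  have hqq : q' ≤ q := by omega
  have h0 : idealOfVars (Fin r) A ^ q ≤ idealOfVars (Fin r) A ^ q' := Ideal.pow_le_pow_right hqq
  have h1 := tor_map_pi_eq_zero (A := A) h0 M i (hc q q' h0 hq M i hi)
  have h2 := transport (map_idealOfVars_pow A r a q) (map_idealOfVars_pow A r a q') _ h M i h1
  exact tor_obj_map_eq_zero_of_app _ _ h2

theorem exists_enum (s : Finset A) : ∃ a : Fin s.card → A, Set.range a = ↑s := by
  refine ⟨fun i => ((s.equivFin.symm i : ↥s) : A), ?_⟩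
  ext x
  constructor
  · rintro ⟨i, rfl⟩
    exact (s.equivFin.symm i).2
  · intro hx
    exact ⟨s.equivFin ⟨x, hx⟩, by simp⟩

/-- S0361 -/
theorem s0361 [IsNoetherianRing A] (I : Ideal A) (t : ℕ) (s : Finset A)
    (hs : I = Ideal.span (s : Set A)) (ht : s.card ≤ t) :
    ∃ N c : ℕ, ∀ (M : Type u) [AddCommGroup M] [Module A M], ∀ n : ℕ, N ≤ n →
      (((Tor (ModuleCat.{u} A) (t + 1)).obj (ModuleCat.of A M)).map (ModuleCat.ofHom
        (Submodule.mapQ (I ^ n) (I ^ (n - c)) LinearMap.id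
          (Ideal.pow_le_pow_right (Nat.sub_le n c))))) = 0 := by
  obtain ⟨a, ha⟩ := exists_enum s
  obtain ⟨c, hc⟩ := torPro s.card a I (by rw [hs, ha])
  refine ⟨c, c, fun M _ _ n hn => ?_⟩
  exact hc n (n - c) (by omega) (Ideal.pow_le_pow_right (Nat.sub_le n c)) (ModuleCat.of A M)
    (t + 1) (by omega)

/-- S1739 -/
theorem s1739 [IsNoetherianRing A] (I : Ideal A) (t : ℕ) (s : Finset A)
    (hs : I = Ideal.span (s : Set A)) (ht : s.card ≤ t) :
    ∃ c : ℕ, ∀ (M : Type u) [AddCommGroup M] [Module A M] (i q : ℕ), t < i →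
      ∀ α ∈ I ^ c, ∀ x : T i (ModuleCat.of A M) (ModuleCat.of A (A ⧸ I ^ q)), α • x = 0 := by
  obtain ⟨a, ha⟩ := exists_enum s
  obtain ⟨c, hc⟩ := torPro s.card a I (by rw [hs, ha])
  refine ⟨c, fun M _ _ i q hi α hα x => ?_⟩
  by_cases hq : q ≤ c
  · apply smul_tor_eq_zero
    intro y
    obtain ⟨b, rfl⟩ := Submodule.mkQ_surjective _ y
    rw [← map_smul, Submodule.mkQ_apply, Submodule.Quotient.mk_eq_zero, smul_eq_mul]
    exact Ideal.mul_mem_right _ _ (Ideal.pow_le_pow_right hq hα)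
  · have hq' : (q - c) + c ≤ q := by omega
    have hpow : I ^ q ≤ I ^ (q - c) := Ideal.pow_le_pow_right (Nat.sub_le q c)
    have hle : I ^ (q - c) ≤ Submodule.comap (LinearMap.mul A A α) (I ^ q) := by
      intro b hb
      rw [Submodule.mem_comap, LinearMap.mul_apply']
      have : I ^ q = I ^ c * I ^ (q - c) := by rw [← pow_add]; congr 1; omega
      rw [this]
      exact Ideal.mul_mem_mul hα hb
    let μ : ModuleCat.of A (A ⧸ I ^ (q - c)) ⟶ ModuleCat.of A (A ⧸ I ^ q) :=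
      ModuleCat.ofHom (Submodule.mapQ (I ^ (q - c)) (I ^ q) (LinearMap.mul A A α) hle)
    have hfac : α • 𝟙 (ModuleCat.of A (A ⧸ I ^ q)) = qpi hpow ≫ μ := by
      apply ModuleCat.hom_ext
      apply LinearMap.ext
      intro y
      obtain ⟨b, rfl⟩ := Submodule.mkQ_surjective _ y
      rfl
    have h1 := tor_obj_map_smul_id (ModuleCat.of A M) (ModuleCat.of A (A ⧸ I ^ q)) α i
    rw [hfac, Functor.map_comp, hc q (q - c) hq' hpow (ModuleCat.of A M) i (by omega),
      zero_comp] at h1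
    have h2 : ((0 : T i (ModuleCat.of A M) (ModuleCat.of A (A ⧸ I ^ q)) ⟶ _)).hom x =
        (α • 𝟙 (T i (ModuleCat.of A M) (ModuleCat.of A (A ⧸ I ^ q)))).hom x := by rw [h1]
    exact h2.symm

end Main

end Groth.Agent.Lib.Helper5.TorPro
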