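import Mathlib
import Groth.Prelude.Def_BlowUp2
import Groth.Agent.Lib.Helper5.TorPro.Main
import Groth.Agent.Lib.Helper4.TorFlat1

/-!
# `Tor_i^A(A[I/a₀], M)` is uniformly annihilated by a power of `I` for `i ≥` number of generators (helper5)
-/

universe u
open CategoryTheory MonoidalCategory Limits TensorProduct Opposite

namespace Groth.Agent.Lib.Helper5.TorPro
open Groth.Agent.Helper1.TorL Groth.Agent.Helper1.TorNat Groth.Agent.Helper9.Bal
  Groth.Agent.Helper9.TorSecond Groth.Agent.Helper9.TorPow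

section Annih
variable {A : Type u} [CommRing A]

theorem smul_id_of_iso {X Y : ModuleCat.{u} A} (e : X ≅ Y) (α : A) (h : α • 𝟙 X = 0) :
    α • 𝟙 Y = 0 := by
  have : α • 𝟙 Y = e.inv ≫ (α • 𝟙 X) ≫ e.hom := by
    rw [Linear.smul_comp, Linear.comp_smul, Category.id_comp, Iso.inv_hom_id]
  rw [this, h, zero_comp, comp_zero]

theorem annih_quot [IsNoetherianRing A] (r : ℕ) (a : Fin r → A) (I : Ideal A)
    (hI : I = Ideal.span (Set.range a)) :
    ∃ c : ℕ, ∀ (q : ℕ) (M : ModuleCat.{u} A) (i : ℕ), r < i → ∀ α ∈ I ^ c,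
      α • 𝟙 (T i (ModuleCat.of A (A ⧸ I ^ q)) M) = 0 := by
  obtain ⟨c, hc⟩ := torPro r a I hI
  refine ⟨c, fun q M i hi α hα => ?_⟩
  rw [← tor_map_smul_id]
  by_cases hq : q ≤ c
  · have h0 : α • 𝟙 (ModuleCat.of A (A ⧸ I ^ q)) =
        (0 : A) • 𝟙 (ModuleCat.of A (A ⧸ I ^ q)) := by
      apply ModuleCat.hom_ext
      apply LinearMap.ext
      intro y
      obtain ⟨b, rfl⟩ := Submodule.mkQ_surjective _ y
      show α • (I ^ q).mkQ b = (0 : A) • (I ^ q).mkQ b
      rw [zero_smul, ← map_smul, Submodule.mkQ_apply, Submodule.Quotient.mk_eq_zero, smul_eq_mul]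
      exact Ideal.mul_mem_right _ _ (Ideal.pow_le_pow_right hq hα)
    rw [h0, tor_map_smul_id, zero_smul]
  · have hq' : (q - c) + c ≤ q := by omega
    have hpow : I ^ q ≤ I ^ (q - c) := Ideal.pow_le_pow_right (Nat.sub_le q c)
    have hle : I ^ (q - c) ≤ Submodule.comap (LinearMap.mul A A α) (I ^ q) := by
      intro b hb
      rw [Submodule.mem_comap, LinearMap.mul_apply']
      have : I ^ q = I ^ c * I ^ (q - c) := by rw [← pow_add]; congr 1; omega
      rw [this]
      exact Ideal.mul_mem_mul hα hb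
    let μ : ModuleCat.of A (A ⧸ I ^ (q - c)) ⟶ ModuleCat.of A (A ⧸ I ^ q) :=
      ModuleCat.ofHom (Submodule.mapQ (I ^ (q - c)) (I ^ q) (LinearMap.mul A A α) hle)
    have hfac : α • 𝟙 (ModuleCat.of A (A ⧸ I ^ q)) = qpi hpow ≫ μ := by
      apply ModuleCat.hom_ext
      apply LinearMap.ext
      intro y
      obtain ⟨b, rfl⟩ := Submodule.mkQ_surjective _ y
      rfl
    rw [hfac, Functor.map_comp, NatTrans.comp_app,
      tor_map_app_eq_zero_of_obj_map _ _ (hc q (q - c) hq' hpow M i hi), zero_comp]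

theorem annih_ideal [IsNoetherianRing A] (r : ℕ) (a : Fin r → A) (I : Ideal A)
    (hI : I = Ideal.span (Set.range a)) :
    ∃ c : ℕ, ∀ (q : ℕ) (M : ModuleCat.{u} A) (i : ℕ), r ≤ i → 1 ≤ i → ∀ α ∈ I ^ c,
      α • 𝟙 (T i (ModuleCat.of A ↥(I ^ q)) M) = 0 := by
  obtain ⟨c, hc⟩ := annih_quot r a I hI
  refine ⟨c, fun q M i hi hi1 α hα => ?_⟩
  obtain ⟨i', rfl⟩ : ∃ i', i = i' + 1 := ⟨i - 1, by omega⟩
  have e := torShiftIso (idealSC (I ^ q)) (idealSC_shortExact (I ^ q)) M (i' + 1)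
    (isZero_tor_succ_ring M (I ^ q) (i' + 1)) (isZero_tor_succ_ring M (I ^ q) i')
  exact smul_id_of_iso e α (hc q M (i' + 1 + 1) (by omega) α hα)

theorem smul_id_tor_directLimit (G : ULift.{u} ℕ → Type u) [∀ i, AddCommGroup (G i)]
    [∀ i, Module A (G i)] (f : ∀ i j, i ≤ j → G i →ₗ[A] G j)
    [DirectedSystem G fun i j h => f i j h] (Y : ModuleCat.{u} A) (n : ℕ) (α : A)
    (h : ∀ i, α • 𝟙 (T n (ModuleCat.of A (G i)) Y) = 0) :
    α • 𝟙 (T n (ModuleCat.of A (Module.DirectLimit G f)) Y) = 0 := by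
  have hcol := ModuleCat.directLimitIsColimit (R := A) G f
  haveI := Groth.Agent.Helper1.TorFilt.main Y n (ULift.{u} ℕ)
  have hc := isColimitOfPreserves ((Tor (ModuleCat.{u} A) n).flip.obj Y) hcol
  apply hc.hom_ext
  intro j
  let ι' : T n (ModuleCat.of A (G j)) Y ⟶ T n (ModuleCat.of A (Module.DirectLimit G f)) Y :=
    (((Tor (ModuleCat.{u} A) n).flip.obj Y).mapCocone (ModuleCat.directLimitCocone G f)).ι.app j
  change ι' ≫ (α • 𝟙 (T n (ModuleCat.of A (Module.DirectLimit G f)) Y)) = ι' ≫ 0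
  rw [Linear.comp_smul, Category.comp_id, comp_zero, ← Category.id_comp ι', ← Linear.smul_comp,
    h j, zero_comp]

end Annih

section Blow
variable {A : Type u} [CommRing A] (I : Ideal A) (a₀ : A)

/-- the inverse of `a₀` in the localization -/
noncomputable abbrev ainv : Localization.Away a₀ := IsLocalization.Away.invSelf a₀

theorem a_mul_ainv : algebraMap A (Localization.Away a₀) a₀ * ainv a₀ = 1 :=
  IsLocalization.Away.mul_invSelf a₀

theorem pow_mul_ainv_pow (k : ℕ) :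
    algebraMap A (Localization.Away a₀) (a₀ ^ k) * ainv a₀ ^ k = 1 := by
  rw [map_pow, ← mul_pow, a_mul_ainv, one_pow]

/-- `x ↦ x / a₀^n` -/
noncomputable def psi (n : ℕ) : ↥(I ^ n) →ₗ[A] Localization.Away a₀ :=
  (LinearMap.mulRight A (ainv a₀ ^ n)) ∘ₗ (Algebra.linearMap A (Localization.Away a₀)) ∘ₗ
    (I ^ n).subtype

theorem psi_apply (n : ℕ) (x : ↥(I ^ n)) :
    psi I a₀ n x = algebraMap A (Localization.Away a₀) (x : A) * ainv a₀ ^ n := rfl

variable {I a₀} in
theorem mul_mem_pow (ha : a₀ ∈ I) {n m : ℕ} (h : n ≤ m) {x : A} (hx : x ∈ I ^ n) :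
    a₀ ^ (m - n) * x ∈ I ^ m := by
  have : I ^ m = I ^ (m - n) * I ^ n := by rw [← pow_add]; congr 1; omega
  rw [this]
  exact Ideal.mul_mem_mul (Ideal.pow_mem_pow ha _) hx

/-- multiplication by `a₀^(m-n)` from `I^n` to `I^m` -/
noncomputable def fmap (ha : a₀ ∈ I) (n m : ℕ) (h : n ≤ m) : ↥(I ^ n) →ₗ[A] ↥(I ^ m) :=
  (LinearMap.mul A A (a₀ ^ (m - n))).restrict (fun _ hx => mul_mem_pow ha h hx)

theorem fmap_coe (ha : a₀ ∈ I) (n m : ℕ) (h : n ≤ m) (x : ↥(I ^ n)) :
    ((fmap I a₀ ha n m h x : ↥(I ^ m)) : A) = a₀ ^ (m - n) * (x : A) := rfl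

theorem psi_fmap (ha : a₀ ∈ I) (n m : ℕ) (h : n ≤ m) (x : ↥(I ^ n)) :
    psi I a₀ m (fmap I a₀ ha n m h x) = psi I a₀ n x := by
  rw [psi_apply, psi_apply, fmap_coe, map_mul]
  have hm : ainv a₀ ^ m = ainv a₀ ^ (m - n) * ainv a₀ ^ n := by rw [← pow_add]; congr 1; omega
  rw [hm]
  have h1 := pow_mul_ainv_pow a₀ (m - n)
  linear_combination (algebraMap A (Localization.Away a₀) (x : A) * ainv a₀ ^ n) * h1

/-- the directed system `I^n`, with transition maps multiplication by powers of `a₀` -/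
abbrev GG : ULift.{u} ℕ → Type u := fun k => ↥(I ^ k.down)

/-- transition maps -/
noncomputable abbrev ffm (ha : a₀ ∈ I) : ∀ k l : ULift.{u} ℕ, k ≤ l → GG I k →ₗ[A] GG I l :=
  fun k l h => fmap I a₀ ha k.down l.down (ULift.down_le.mpr h)

theorem directedSystem_ffm (ha : a₀ ∈ I) :
    DirectedSystem (GG I) fun k l h => ffm I a₀ ha k l h := by
  refine ⟨fun k x => ?_, fun k l m hkl hlm x => ?_⟩
  · apply Subtype.ext
    rw [fmap_coe, Nat.sub_self, pow_zero, one_mul]
  · apply Subtype.ext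
    rw [fmap_coe, fmap_coe, fmap_coe, ← mul_assoc, ← pow_add]
    have h1 := ULift.down_le.mpr hkl
    have h2 := ULift.down_le.mpr hlm
    congr 2
    omega

theorem gen_mem (z : A) (hz : z ∈ I) :
    algebraMap A (Localization.Away a₀) z * ainv a₀ ∈ BlowUp.affineAlgebra A I a₀ := by
  apply Algebra.subset_adjoin
  exact ⟨z, hz, (IsLocalization.mk'_eq_mul_mk'_one z _).symm⟩

/-- elements `x` with `x / a₀^n` in the blow-up algebra -/
noncomputable def Tn (n : ℕ) : Ideal A :=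
  Submodule.comap ((LinearMap.mulRight A (ainv a₀ ^ n)) ∘ₗ
    Algebra.linearMap A (Localization.Away a₀))
    (Subalgebra.toSubmodule (BlowUp.affineAlgebra A I a₀))

theorem mem_Tn {n : ℕ} {x : A} : x ∈ Tn I a₀ n ↔
    algebraMap A (Localization.Away a₀) x * ainv a₀ ^ n ∈ BlowUp.affineAlgebra A I a₀ := Iff.rfl

theorem pow_le_Tn (n : ℕ) : I ^ n ≤ Tn I a₀ n := by
  induction n with
  | zero =>
    intro x _
    rw [mem_Tn, pow_zero, mul_one]
    exact Subalgebra.algebraMap_mem _ x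
  | succ n ih =>
    rw [pow_succ, Ideal.mul_le]
    intro y hy z hz
    rw [mem_Tn]
    have : algebraMap A (Localization.Away a₀) (y * z) * ainv a₀ ^ (n + 1) =
        (algebraMap A (Localization.Away a₀) y * ainv a₀ ^ n) *
          (algebraMap A (Localization.Away a₀) z * ainv a₀) := by
      rw [map_mul, pow_succ]; ring
    rw [this]
    exact mul_mem ((mem_Tn I a₀).mp (ih hy)) (gen_mem I a₀ z hz)

theorem exists_psi_of_mem (ha : a₀ ∈ I) (b : Localization.Away a₀)
    (hb : b ∈ BlowUp.affineAlgebra A I a₀) :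
    ∃ n : ℕ, ∃ x ∈ I ^ n, b = algebraMap A (Localization.Away a₀) x * ainv a₀ ^ n := by
  unfold BlowUp.affineAlgebra at hb
  induction hb using Algebra.adjoin_induction with
  | mem b hb =>
    obtain ⟨x, hx, rfl⟩ := hb
    refine ⟨1, x, by rwa [pow_one], ?_⟩
    rw [pow_one]
    exact IsLocalization.mk'_eq_mul_mk'_one x _
  | algebraMap r =>
    exact ⟨0, r, by simp, by simp⟩
  | add b b' _ _ hb hb' =>
    obtain ⟨n, x, hx, rfl⟩ := hb
    obtain ⟨m, y, hy, rfl⟩ := hb'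
    refine ⟨n + m, a₀ ^ m * x + a₀ ^ n * y, add_mem ?_ ?_, ?_⟩
    · have : I ^ (n + m) = I ^ m * I ^ n := by rw [← pow_add, add_comm]
      rw [this]
      exact Ideal.mul_mem_mul (Ideal.pow_mem_pow ha m) hx
    · rw [pow_add]
      exact Ideal.mul_mem_mul (Ideal.pow_mem_pow ha n) hy
    · rw [map_add, map_mul, map_mul, pow_add]
      have h1 := pow_mul_ainv_pow a₀ m
      have h2 := pow_mul_ainv_pow a₀ n
      linear_combination
        (-(algebraMap A (Localization.Away a₀) x * ainv a₀ ^ n)) * h1 +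
          (-(algebraMap A (Localization.Away a₀) y * ainv a₀ ^ m)) * h2
  | mul b b' _ _ hb hb' =>
    obtain ⟨n, x, hx, rfl⟩ := hb
    obtain ⟨m, y, hy, rfl⟩ := hb'
    refine ⟨n + m, x * y, ?_, ?_⟩
    · rw [pow_add]
      exact Ideal.mul_mem_mul hx hy
    · rw [map_mul, pow_add]; ring

theorem blowEquiv (ha : a₀ ∈ I) :
    haveI := directedSystem_ffm I a₀ ha
    Nonempty (Module.DirectLimit (GG I) (ffm I a₀ ha) ≃ₗ[A] ↥(BlowUp.affineAlgebra A I a₀)) := by
  haveI := directedSystem_ffm I a₀ ha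
  let g : ∀ k : ULift.{u} ℕ, GG I k →ₗ[A] Localization.Away a₀ := fun k => psi I a₀ k.down
  have hg : ∀ k l hkl x, g l (ffm I a₀ ha k l hkl x) = g k x :=
    fun k l hkl x => psi_fmap I a₀ ha _ _ _ x
  let e0 : Module.DirectLimit (GG I) (ffm I a₀ ha) →ₗ[A] Localization.Away a₀ :=
    Module.DirectLimit.lift A _ (GG I) (ffm I a₀ ha) g hg
  have hmem : ∀ z, e0 z ∈ Subalgebra.toSubmodule (BlowUp.affineAlgebra A I a₀) := by
    intro z
    obtain ⟨k, x, rfl⟩ := Module.DirectLimit.exists_of z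
    rw [Module.DirectLimit.lift_of]
    exact pow_le_Tn I a₀ k.down x.2
  let e1 : Module.DirectLimit (GG I) (ffm I a₀ ha) →ₗ[A]
      ↥(Subalgebra.toSubmodule (BlowUp.affineAlgebra A I a₀)) := e0.codRestrict _ hmem
  have hinj : Function.Injective e1 := by
    rw [← LinearMap.ker_eq_bot, LinearMap.ker_eq_bot']
    intro z hz
    have hz0 : e0 z = 0 := congrArg Subtype.val hz
    obtain ⟨k, x, rfl⟩ := Module.DirectLimit.exists_of z
    rw [Module.DirectLimit.lift_of] at hz0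
    have hx0 : algebraMap A (Localization.Away a₀) (x : A) * ainv a₀ ^ k.down = 0 := hz0
    have hx1 : algebraMap A (Localization.Away a₀) (x : A) = 0 := by
      have h1 := pow_mul_ainv_pow a₀ k.down
      calc algebraMap A (Localization.Away a₀) (x : A)
          = algebraMap A (Localization.Away a₀) (x : A) *
              (algebraMap A (Localization.Away a₀) (a₀ ^ k.down) * ainv a₀ ^ k.down) := by
            rw [h1, mul_one]
        _ = (algebraMap A (Localization.Away a₀) (x : A) * ainv a₀ ^ k.down) *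
              algebraMap A (Localization.Away a₀) (a₀ ^ k.down) := by ring
        _ = 0 := by rw [hx0, zero_mul]
    obtain ⟨⟨_, k', rfl⟩, hk⟩ :=
      (IsLocalization.map_eq_zero_iff (Submonoid.powers a₀) (Localization.Away a₀) (x : A)).mp hx1
    have hle : k ≤ (⟨k.down + k'⟩ : ULift.{u} ℕ) := ULift.down_le.mp (Nat.le_add_right _ _)
    have h0 : ffm I a₀ ha k ⟨k.down + k'⟩ hle x = 0 := by
      apply Subtype.ext
      rw [fmap_coe]
      show a₀ ^ (k.down + k' - k.down) * (x : A) = 0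
      rw [Nat.add_sub_cancel_left]
      exact hk
    rw [← Module.DirectLimit.of_f (R := A) (G := GG I) (f := ffm I a₀ ha) (i := k)
      (j := ⟨k.down + k'⟩) (hij := hle) (x := x), h0, map_zero]
  have hsurj : Function.Surjective e1 := by
    rintro ⟨b, hb⟩
    obtain ⟨n, x, hx, rfl⟩ := exists_psi_of_mem I a₀ ha b hb
    exact ⟨Module.DirectLimit.of A _ (GG I) (ffm I a₀ ha) ⟨n⟩ ⟨x, hx⟩,
      Subtype.ext (Module.DirectLimit.lift_of _ _ _)⟩
  exact ⟨(LinearEquiv.ofBijective e1 ⟨hinj, hsurj⟩).trans (Subalgebra.toSubmoduleEquiv _)⟩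

/-- **S8938** -/
theorem blow_annih [IsNoetherianRing A] (t : ℕ) (a : Fin (t + 1) → A) :
    ∃ c : ℕ, ∀ (M : ModuleCat.{u} A) (i : ℕ), t + 1 ≤ i →
      ∀ α ∈ Ideal.span (Set.range a) ^ c,
        α • 𝟙 (T i (ModuleCat.of A
          ↥(BlowUp.affineAlgebra A (Ideal.span (Set.range a)) (a 0))) M) = 0 := by
  have ha : a 0 ∈ Ideal.span (Set.range a) := Ideal.subset_span ⟨0, rfl⟩
  obtain ⟨c, hc⟩ := annih_ideal (t + 1) a (Ideal.span (Set.range a)) rfl
  refine ⟨c, fun M i hi α hα => ?_⟩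
  haveI := directedSystem_ffm (Ideal.span (Set.range a)) (a 0) ha
  have h1 : α • 𝟙 (T i (ModuleCat.of A (Module.DirectLimit (GG (Ideal.span (Set.range a)))
      (ffm (Ideal.span (Set.range a)) (a 0) ha))) M) = 0 :=
    smul_id_tor_directLimit (GG (Ideal.span (Set.range a)))
      (ffm (Ideal.span (Set.range a)) (a 0) ha) M i α
      (fun k => hc k.down M i hi (by omega) α hα)
  obtain ⟨e⟩ := blowEquiv (Ideal.span (Set.range a)) (a 0) ha
  exact smul_id_of_iso (torCongrLeft e.toModuleIso M i) α h1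

end Blow

end Groth.Agent.Lib.Helper5.TorPro
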